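import Mathlib

/-! Localization of simple subquotients at a maximal ideal. -/

set_option autoImplicit false
universe u

namespace Groth.Agent.LenLocal3

variable {R : Type u} [CommRing R] {M : Type u} [AddCommGroup M] [Module R M] {A B : Submodule R M}
  (m : Ideal R) [m.IsMaximal]

theorem localized_mono {A B : Submodule R M} (h : A ≤ B) : A.localized m.primeCompl ≤ B.localized m.primeCompl := by
  intro z hz
  rw [Submodule.mem_localized'] at hz ⊢
  obtain ⟨y, hy, t, rfl⟩ := hz
  exact ⟨y, h hy, t, rfl⟩

theorem exists_smul_add {x z : M} (hAB : A ⋖ B) (hx : x ∈ B) (hx' : x ∉ A) (hz : z ∈ B) :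
    ∃ a ∈ A, ∃ e : R, a + e • x = z := by
  have h : A ⊔ (R ∙ x) = B := by
    refine (hAB.eq_or_eq le_sup_left (sup_le hAB.le ((Submodule.span_singleton_le_iff_mem _ _).mpr hx))).resolve_left fun h => hx' ?_
    exact h ▸ Submodule.mem_sup_right (Submodule.mem_span_singleton_self x)
  rw [← h] at hz
  obtain ⟨a, ha, b, hb, rfl⟩ := Submodule.mem_sup.mp hz
  obtain ⟨e, rfl⟩ := Submodule.mem_span_singleton.mp hb
  exact ⟨a, ha, e, rfl⟩

theorem colon_isMaximal (hAB : A ⋖ B) : (A.colon (B : Set M)).IsMaximal := by
  rw [Ideal.isMaximal_iff]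
  refine ⟨fun h => hAB.lt.not_ge fun x hx => by simpa using Submodule.mem_colon.mp h x hx, fun J r hJ hr hrJ => ?_⟩
  rw [Submodule.mem_colon] at hr
  push Not at hr
  obtain ⟨y, hy, hy'⟩ := hr
  obtain ⟨a, ha, c, hc⟩ := exists_smul_add hAB (B.smul_mem r hy) hy' hy
  have hcol : 1 - c * r ∈ A.colon (B : Set M) := by
    rw [Submodule.mem_colon]
    intro z hz
    obtain ⟨a', ha', e, rfl⟩ := exists_smul_add hAB (B.smul_mem r hy) hy' hz
    have h1 : (1 - c * r) • y = a := by
      rw [sub_smul, one_smul, mul_smul, sub_eq_iff_eq_add, hc]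
    rw [smul_add, smul_comm (1 - c * r) e, smul_comm (1 - c * r) r, h1]
    exact add_mem (A.smul_mem _ ha') (A.smul_mem _ (A.smul_mem _ ha))
  simpa using add_mem (hJ hcol) (J.mul_mem_left c hrJ)

theorem localized_eq_of_colon_ne (hAB : A ⋖ B) (h : A.colon (B : Set M) ≠ m) :
    B.localized m.primeCompl = A.localized m.primeCompl := by
  refine le_antisymm ?_ (localized_mono m hAB.le)
  obtain ⟨r, hr, hrm⟩ := SetLike.not_le_iff_exists.mp fun hle =>
    h ((colon_isMaximal hAB).eq_of_le (Ideal.IsPrime.ne_top' (I := m)) hle)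
  intro z hz
  rw [Submodule.mem_localized'] at hz ⊢
  obtain ⟨y, hy, t, rfl⟩ := hz
  exact ⟨r • y, Submodule.mem_colon.mp hr y hy, (⟨r, hrm⟩ : m.primeCompl) * t,
    IsLocalizedModule.mk'_cancel_left _ y ⟨r, hrm⟩ t⟩

theorem covBy_localized_of_colon_eq (hAB : A ⋖ B) (h : A.colon (B : Set M) = m) :
    A.localized m.primeCompl ⋖ B.localized m.primeCompl := by
  obtain ⟨x, hx, hx'⟩ := SetLike.exists_of_lt hAB.lt
  refine ⟨lt_of_le_of_ne (localized_mono m hAB.le) fun he => ?_, fun P hP hP' => ?_⟩
  · have hB : IsLocalizedModule.mk' (LocalizedModule.mkLinearMap m.primeCompl M) x (1 : m.primeCompl) ∈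
        A.localized m.primeCompl := he ▸ (Submodule.mem_localized' _ _ _ _ _).mpr ⟨x, hx, 1, rfl⟩
    obtain ⟨y, hy, t, hyt⟩ := (Submodule.mem_localized' _ _ _ _ _).mp hB
    rw [IsLocalizedModule.mk'_eq_mk'_iff] at hyt
    obtain ⟨c, hc⟩ := hyt
    simp only [one_smul, Submonoid.smul_def] at hc
    have hct : ((c : R) * t) • x ∈ A := by
      rw [mul_smul]
      first | exact hc ▸ A.smul_mem _ hy | exact hc.symm ▸ A.smul_mem _ hy
    apply (c * t).2
    show ((c : R) * t) ∈ (m : Set R)
    refine h.le (Submodule.mem_colon.mpr fun z hz => ?_)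
    obtain ⟨a, ha, e, rfl⟩ := exists_smul_add hAB hx hx' hz
    rw [smul_add, smul_comm _ e x]
    exact add_mem (A.smul_mem _ ha) (A.smul_mem _ hct)
  · obtain ⟨z, hz, hz'⟩ := SetLike.exists_of_lt hP
    obtain ⟨y, hy, t, rfl⟩ := (Submodule.mem_localized' _ _ _ _ _).mp (hP'.le hz)
    have hy' : y ∉ A := fun h => hz' ((Submodule.mem_localized' _ _ _ _ _).mpr ⟨y, h, t, rfl⟩)
    apply hP'.not_ge
    intro w hw
    obtain ⟨v, hv, t', rfl⟩ := (Submodule.mem_localized' _ _ _ _ _).mp hw
    obtain ⟨a, ha, e, rfl⟩ := exists_smul_add hAB hy hy' hv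
    rw [IsLocalizedModule.mk'_add]
    refine add_mem (hP.le ((Submodule.mem_localized' _ _ _ _ _).mpr ⟨a, ha, t', rfl⟩)) ?_
    have : IsLocalizedModule.mk' (LocalizedModule.mkLinearMap m.primeCompl M) (e • y) t' =
        IsLocalization.mk' (Localization.AtPrime m) (e * t) t' •
          IsLocalizedModule.mk' (LocalizedModule.mkLinearMap m.primeCompl M) y t := by
      rw [IsLocalizedModule.mk'_smul_mk', mul_comm e, mul_smul, mul_comm t' t]
      exact (IsLocalizedModule.mk'_cancel_left _ (e • y) t t').symm
    rw [this]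
    exact P.smul_mem _ hz

theorem length_localized_covBy (hAB : A ⋖ B) :
    Module.length (Localization.AtPrime m) (B.localized m.primeCompl) =
      Module.length (Localization.AtPrime m) (A.localized m.primeCompl) +
        (open Classical in if A.colon (B : Set M) = m then 1 else 0) := by
  classical
  split_ifs with h
  · have hle := localized_mono m hAB.le
    have := (covBy_iff_quot_is_simple hle).mp (covBy_localized_of_colon_eq m hAB h)
    rw [Module.length_eq_add_of_exact _ _ (Submodule.injective_subtype
        ((A.localized m.primeCompl).comap (B.localized m.primeCompl).subtype))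
        (Submodule.mkQ_surjective _) (LinearMap.exact_subtype_mkQ _),
      (Submodule.comapSubtypeEquivOfLe hle).length_eq]
    exact congrArg _ (Module.length_eq_one _ _)
  · rw [localized_eq_of_colon_ne m hAB h, add_zero]

theorem card_colon_eq_length (s : CompositionSeries (Submodule R M)) (h0 : s.head = ⊥) (h1 : s.last = ⊤)
    [DecidablePred fun i : Fin s.length => (s i.castSucc).colon (s i.succ : Set M) = m] :
    ((Finset.univ.filter fun i : Fin s.length => (s i.castSucc).colon (s i.succ : Set M) = m).card : ℕ∞) =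
      Module.length (Localization.AtPrime m) (LocalizedModule m.primeCompl M) := by
  classical
  let a : Fin (s.length + 1) → ℕ∞ := fun k => Module.length (Localization.AtPrime m) ((s k).localized m.primeCompl)
  have ha : ∀ k : Fin (s.length + 1), a k = ∑ i ∈ Finset.univ.filter (fun i : Fin s.length => i.castSucc < k),
      (if (s i.castSucc).colon (s i.succ : Set M) = m then 1 else 0) := by
    intro k
    induction k using Fin.induction with
    | zero =>
      have hbot : (s 0).localized m.primeCompl = ⊥ := by
        rw [show s 0 = ⊥ from h0]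
        exact Submodule.localized'_bot _ _ _
      have : Subsingleton ((s 0).localized m.primeCompl) := by rw [hbot]; infer_instance
      simp [a, Module.length_eq_zero]
    | succ i ih =>
      have hset : Finset.univ.filter (fun j : Fin s.length => j.castSucc < i.succ) =
          insert i (Finset.univ.filter fun j : Fin s.length => j.castSucc < i.castSucc) := by
        ext j
        simp only [Finset.mem_filter, Finset.mem_univ, true_and, Finset.mem_insert, Fin.lt_def,
          Fin.val_castSucc, Fin.val_succ, Fin.ext_iff]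
        omega
      rw [hset, Finset.sum_insert (by simp), ← ih, add_comm]
      convert length_localized_covBy m (s.step i)
  have htop : (s (Fin.last s.length)).localized m.primeCompl = ⊤ := by
    rw [show s (Fin.last s.length) = ⊤ from h1]
    exact Submodule.localized'_top _ _ _
  have := ha (Fin.last s.length)
  rw [show Module.length (Localization.AtPrime m) (LocalizedModule m.primeCompl M) = a (Fin.last s.length) by
    simp only [a]; rw [htop]; exact Module.length_top.symm, this, Finset.sum_boole]
  congr 2
  ext i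
  simp [Fin.castSucc_lt_last]

end Groth.Agent.LenLocal3
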