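import Groth.Agent.LenLocal3.Basic

/-! Length over a base ring of a module of finite length. -/

set_option autoImplicit false
universe u

namespace Groth.Agent.LenLocal3

variable {A B : Type u} [CommRing A] [CommRing B] [Algebra A B] {M : Type u} [AddCommGroup M] [Module B M]
  [Module A M] [IsScalarTower A B M]

theorem length_covBy {P Q : Submodule B M} (hPQ : P ⋖ Q) :
    Module.length A Q = Module.length A P + Module.length A (B ⧸ P.colon (Q : Set M)) := by
  obtain ⟨x, hx, hx'⟩ := SetLike.exists_of_lt hPQ.lt
  let P' : Submodule B Q := P.comap Q.subtype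
  let f : B →ₗ[B] Q ⧸ P' := P'.mkQ ∘ₗ LinearMap.toSpanSingleton B Q ⟨x, hx⟩
  have hf : Function.Surjective f := by
    intro y
    obtain ⟨⟨z, hz⟩, rfl⟩ := P'.mkQ_surjective y
    obtain ⟨a, ha, e, rfl⟩ := exists_smul_add hPQ hx hx' hz
    exact ⟨e, (Submodule.Quotient.eq _).mpr (show e • x - (a + e • x) ∈ P by simpa using ha)⟩
  have hker : LinearMap.ker f = P.colon (Q : Set M) := by
    ext b
    rw [LinearMap.mem_ker, LinearMap.comp_apply, Submodule.mkQ_apply, Submodule.Quotient.mk_eq_zero,
      Submodule.mem_colon]
    show b • x ∈ P ↔ _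
    refine ⟨fun hb z hz => ?_, fun h => h x hx⟩
    obtain ⟨a, ha, e, rfl⟩ := exists_smul_add hPQ hx hx' hz
    rw [smul_add, smul_comm b e x]
    exact add_mem (P.smul_mem _ ha) (P.smul_mem _ hb)
  let e := ((Submodule.quotEquivOfEq _ _ hker.symm).trans (f.quotKerEquivOfSurjective hf)).restrictScalars A
  rw [Module.length_eq_add_of_exact (P'.subtype.restrictScalars A) (P'.mkQ.restrictScalars A)
      P'.injective_subtype P'.mkQ_surjective (LinearMap.exact_subtype_mkQ P'),
    ((Submodule.comapSubtypeEquivOfLe hPQ.le).restrictScalars A).length_eq, e.length_eq]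

theorem length_quotient_maximal (n : Ideal B) [(n.comap (algebraMap A B)).IsMaximal]
    [Module.Finite (A ⧸ n.comap (algebraMap A B)) (B ⧸ n)] :
    Module.length A (B ⧸ n) = Module.finrank (A ⧸ n.comap (algebraMap A B)) (B ⧸ n) := by
  letI := Ideal.Quotient.field (n.comap (algebraMap A B))
  rw [Module.length_eq_of_surjective (R := A ⧸ n.comap (algebraMap A B)) Ideal.Quotient.mk_surjective,
    Module.length_eq_finrank]

theorem length_eq_sum [Fintype (MaximalSpectrum B)]
    (hover : ∀ n : MaximalSpectrum B, (n.asIdeal.comap (algebraMap A B)).IsMaximal)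
    (hfin : ∀ n : MaximalSpectrum B, Module.Finite (A ⧸ n.asIdeal.comap (algebraMap A B)) (B ⧸ n.asIdeal))
    (s : CompositionSeries (Submodule B M)) (h0 : s.head = ⊥) (h1 : s.last = ⊤) :
    Module.length A M = ∑ n : MaximalSpectrum B,
      (Module.finrank (A ⧸ n.asIdeal.comap (algebraMap A B)) (B ⧸ n.asIdeal) : ℕ∞) *
        Module.length (Localization.AtPrime n.asIdeal) (LocalizedModule n.asIdeal.primeCompl M) := by
  classical
  let F : Fin s.length → MaximalSpectrum B := fun i =>
    ⟨(s i.castSucc).colon (s i.succ : Set M), colon_isMaximal (s.step i)⟩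
  let w : MaximalSpectrum B → ℕ∞ := fun n =>
    (Module.finrank (A ⧸ n.asIdeal.comap (algebraMap A B)) (B ⧸ n.asIdeal) : ℕ∞)
  have key : ∀ k : Fin (s.length + 1), Module.length A (s k) =
      ∑ i ∈ Finset.univ.filter (fun i : Fin s.length => i.castSucc < k), w (F i) := by
    intro k
    induction k using Fin.induction with
    | zero =>
      have : Subsingleton (s 0 : Submodule B M) := by rw [show s 0 = ⊥ from h0]; infer_instance
      simp [Module.length_eq_zero]
    | succ i ih =>
      have hset : Finset.univ.filter (fun j : Fin s.length => j.castSucc < i.succ) =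
          insert i (Finset.univ.filter fun j : Fin s.length => j.castSucc < i.castSucc) := by
        ext j
        simp only [Finset.mem_filter, Finset.mem_univ, true_and, Finset.mem_insert, Fin.lt_def,
          Fin.val_castSucc, Fin.val_succ, Fin.ext_iff]
        omega
      rw [hset, Finset.sum_insert (by simp), ← ih, add_comm, length_covBy (s.step i)]
      haveI := hover (F i)
      haveI := hfin (F i)
      exact congrArg _ (length_quotient_maximal (F i).asIdeal)
  have htop : Module.length A M = Module.length A (s (Fin.last s.length) : Submodule B M) := by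
    rw [show s (Fin.last s.length) = ⊤ from h1]
    exact ((Submodule.topEquiv (R := B) (M := M)).restrictScalars A).length_eq.symm
  rw [htop, key, Finset.filter_true_of_mem fun i _ => Fin.castSucc_lt_last i,
    ← Finset.sum_fiberwise Finset.univ F fun i => w (F i)]
  refine Finset.sum_congr rfl fun n _ => ?_
  rw [Finset.sum_congr rfl (fun i hi => congrArg w (Finset.mem_filter.mp hi).2), Finset.sum_const,
    nsmul_eq_mul, mul_comm, ← card_colon_eq_length n.asIdeal s h0 h1]
  congr 3
  ext i
  simp [F, MaximalSpectrum.ext_iff]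

end Groth.Agent.LenLocal3
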